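import Cfsg.Agent.H653.Sieve.Col
import Cfsg.Agent.SmallSimple.TheoremBCor
import Cfsg.Agent.SmallSimple.InvolColumn
import Cfsg.Agent.S0235

/-!
# The principal block for a self-centralizing element of prime order (helper116)

`exists_block` : the principal `p`-block for `|C(x)| = p`, numerical form;
`card_pairs` : the number of the pairs of involutions with product `x` is `p`;
`class_eq` : the class equation of the involutions, if the exceptional characters vanish at the involutions.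
-/

set_option autoImplicit false
set_option linter.unusedSectionVars false

open Cfsg Subgroup
open scoped ComplexConjugate

namespace Cfsg.Agent.H116.LyFive

open Cfsg.Agent.Characters.Core Cfsg.Agent.H653.Sieve
open Cfsg.Agent.SmallSimple.PrimeLocal Cfsg.Agent.SmallSimple.InvolColumn

universe u

variable {G : Type u} [Group G] [Finite G]

/-- Inversion in the normalizer. -/
theorem exists_inv {p : ℕ} (hp : p.Prime) {x : G} (hx : orderOf x = p)
    (he : Even ((centralizer ((zpowers x : Subgroup G) : Set G)).relIndex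
      (normalizer ((zpowers x : Subgroup G) : Set G)))) : ∃ g : G, g * x * g⁻¹ = x⁻¹ := by
  set Z : Subgroup G := zpowers x with hZ
  have hle : centralizer (Z : Set G) ≤ normalizer (Z : Set G) := centralizer_le_normalizer _
  let C' := (centralizer (Z : Set G)).subgroupOf (normalizer (Z : Set G))
  have hn : C'.Normal := by
    have := Subgroup.normal_subgroupOf_iff hle
    rw [this]
    intro h g hh hg
    rw [mem_centralizer_iff] at hh ⊢
    intro y hy
    have hg' := (mem_normalizer_iff.1 (inv_mem hg) y).1 hy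
    rw [inv_inv] at hg'
    have h1 := hh _ hg'
    calc y * (g * h * g⁻¹) = g * (g⁻¹ * y * g * h) * g⁻¹ := by group
      _ = g * (h * (g⁻¹ * y * g)) * g⁻¹ := by rw [h1]
      _ = g * h * g⁻¹ * y := by group
  have hcard : Nat.card (normalizer (Z : Set G) ⧸ C') =
      (centralizer (Z : Set G)).relIndex (normalizer (Z : Set G)) := rfl
  obtain ⟨q, hq⟩ := exists_prime_orderOf_dvd_card' (G := normalizer (Z : Set G) ⧸ C') 2 (by
    rw [hcard]; exact he.two_dvd)
  obtain ⟨n, rfl⟩ := QuotientGroup.mk_surjective q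
  have h2 : (n : G) * n ∈ centralizer (Z : Set G) := by
    have h3 : ((n * n : normalizer (Z : Set G)) : normalizer (Z : Set G) ⧸ C') = 1 := by
      have h4 := pow_orderOf_eq_one (QuotientGroup.mk n : normalizer (Z : Set G) ⧸ C')
      rw [hq, pow_two] at h4
      exact h4
    have h4 := (QuotientGroup.eq_one_iff _).1 h3
    exact mem_subgroupOf.1 h4
  have h3 : (n : G) ∉ centralizer (Z : Set G) := by
    intro h4
    have h5 : (QuotientGroup.mk n : normalizer (Z : Set G) ⧸ C') = 1 :=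
      (QuotientGroup.eq_one_iff _).2 (mem_subgroupOf.2 h4)
    rw [h5, orderOf_one] at hq
    omega
  have hxZ : x ∈ Z := mem_zpowers x
  have h4 : (n : G) * x * (n : G)⁻¹ ∈ Z := (mem_normalizer_iff.1 n.2 x).1 hxZ
  obtain ⟨k, hk⟩ := mem_zpowers_iff.1 h4
  have h5 : x ^ (k * k) = x := by
    rw [zpow_mul, hk, conj_zpow, hk]
    have h6 : (n : G) * n * x = x * (n * n) := ((mem_centralizer_iff.1 h2) x hxZ).symm
    calc (n : G) * (n * x * (n : G)⁻¹) * (n : G)⁻¹ = (n * n * x) * ((n : G)⁻¹ * (n : G)⁻¹) := by group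
      _ = x * (n * n) * ((n : G)⁻¹ * (n : G)⁻¹) := by rw [h6]
      _ = x := by group
  have h6 : (p : ℤ) ∣ k * k - 1 := by
    rw [← hx, orderOf_dvd_iff_zpow_eq_one, zpow_sub_one, h5, mul_inv_cancel]
  have h7 : k * k - 1 = (k - 1) * (k + 1) := by ring
  rw [h7] at h6
  rcases (Nat.prime_iff_prime_int.1 hp).dvd_or_dvd h6 with h8 | h8
  · exfalso
    apply h3
    have h9 : x ^ k = x := by
      have := (orderOf_dvd_iff_zpow_eq_one (x := x) (i := k - 1)).1 (by rw [hx]; exact h8)
      rw [zpow_sub_one, mul_inv_eq_one] at this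
      exact this
    rw [h9] at hk
    rw [mem_centralizer_iff]
    intro y hy
    obtain ⟨j, rfl⟩ := mem_zpowers_iff.1 hy
    have h10 : (n : G) * x = x * n := by
      rw [eq_mul_inv_iff_mul_eq] at hk
      exact hk.symm
    exact (Commute.zpow_left (show Commute x (n : G) from h10.symm) j).eq
  · refine ⟨n, ?_⟩
    rw [← hk]
    have := (orderOf_dvd_iff_zpow_eq_one (x := x) (i := k + 1)).1 (by rw [hx]; exact h8)
    rw [zpow_add_one, mul_eq_one_iff_eq_inv] at this
    exact this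

theorem zpowers_eq_centralizer {p : ℕ} {x : G} (hx : orderOf x = p)
    (hc : Nat.card (centralizer ({x} : Set G)) = p) : zpowers x = centralizer ({x} : Set G) := by
  apply Subgroup.eq_of_le_of_card_ge
  · rw [zpowers_le]
    exact mem_centralizer_singleton_iff.2 rfl
  · rw [hc, Nat.card_zpowers, hx]

theorem orderOf_of_inv {p : ℕ} (hp : p.Prime) (hp2 : p ≠ 2) {x : G} (hx : orderOf x = p)
    (hc : Nat.card (centralizer ({x} : Set G)) = p) {s : G} (hs : s * x * s⁻¹ = x⁻¹) : orderOf s = 2 := by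
  have h1 : s * s ∈ zpowers x := by
    rw [zpowers_eq_centralizer hx hc, mem_centralizer_singleton_iff]
    have h2 : s * s * x * (s * s)⁻¹ = x := by
      calc s * s * x * (s * s)⁻¹ = s * (s * x * s⁻¹) * s⁻¹ := by group
        _ = s * x⁻¹ * s⁻¹ := by rw [hs]
        _ = x := by rw [← conj_inv, hs, inv_inv]
    exact mul_inv_eq_iff_eq_mul.1 h2
  obtain ⟨k, hk⟩ := mem_zpowers_iff.1 h1
  have h3 : s * (x ^ k) * s⁻¹ = x ^ k := by rw [hk]; group
  have h4 : s * (x ^ k) * s⁻¹ = (x ^ k)⁻¹ := by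
    rw [← conj_zpow, hs, inv_zpow]
  have h5 : x ^ (2 * k) = 1 := by
    rw [two_mul, zpow_add]
    nth_rewrite 1 [← h3]
    rw [h4, inv_mul_cancel]
  have h6 : (p : ℤ) ∣ 2 * k := by rw [← hx]; exact orderOf_dvd_iff_zpow_eq_one.2 h5
  have h7 : (p : ℤ) ∣ k := by
    rcases (Nat.prime_iff_prime_int.1 hp).dvd_or_dvd h6 with h8 | h8
    · have h9 : p ∣ 2 := by exact_mod_cast h8
      exact absurd ((Nat.prime_dvd_prime_iff_eq hp Nat.prime_two).1 h9) hp2
    · exact h8
  have h8 : s * s = 1 := by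
    rw [← hk]
    exact (orderOf_dvd_iff_zpow_eq_one (x := x) (i := k)).1 (by rw [hx]; exact h7)
  have : Fact (Nat.Prime 2) := ⟨Nat.prime_two⟩
  refine orderOf_eq_prime (by rw [pow_two, h8]) ?_
  rintro rfl
  have h9 : x = x⁻¹ := by simpa using hs
  have h10 : x ^ 2 = 1 := by
    rw [pow_two]
    nth_rewrite 1 [h9]
    exact inv_mul_cancel x
  have h11 : p ∣ 2 := by rw [← hx]; exact orderOf_dvd_of_pow_eq_one h10
  exact hp2 ((Nat.prime_dvd_prime_iff_eq hp Nat.prime_two).1 h11)

/-- The number of the pairs of involutions with product `x`. -/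
theorem card_pairs {p : ℕ} (hp : p.Prime) (hp2 : p ≠ 2) {x : G} (hx : orderOf x = p)
    (hc : Nat.card (centralizer ({x} : Set G)) = p) {g : G} (hg : g * x * g⁻¹ = x⁻¹) {t : G} (ht : orderOf t = 2)
    (hone : ∀ s : G, orderOf s = 2 → IsConj t s) :
    Nat.card {r : G × G // IsConj t r.1 ∧ IsConj t r.2 ∧ r.1 * r.2 = x} = p := by
  have hiff : ∀ s : G, IsConj t s ↔ orderOf s = 2 := fun s => ⟨fun h => by
    obtain ⟨c, hc⟩ := isConj_iff.1 h
    have := orderOf_injective (MulAut.conj c).toMonoidHom (MulAut.conj c).injective t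
    rw [← hc, ← ht]
    simpa using this, hone s⟩
  have hx2 : x ^ 2 ≠ 1 := by
    intro h
    have h11 : p ∣ 2 := by rw [← hx]; exact orderOf_dvd_of_pow_eq_one h
    exact hp2 ((Nat.prime_dvd_prime_iff_eq hp Nat.prime_two).1 h11)
  have h1 : Nat.card {r : G × G // IsConj t r.1 ∧ IsConj t r.2 ∧ r.1 * r.2 = x} =
      Nat.card {r : G × G // orderOf r.1 = 2 ∧ orderOf r.2 = 2 ∧ r.1 * r.2 = x} := by
    simp only [hiff]
  rw [h1, S0235.result x hx2]
  have h2 : Nat.card {s : G // orderOf s = 2 ∧ s * x * s⁻¹ = x⁻¹} = Nat.card (centralizer ({x} : Set G)) := by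
    refine Nat.card_congr ⟨fun s => ⟨g⁻¹ * s.1, ?_⟩, fun c => ⟨g * c.1, ?_⟩, ?_, ?_⟩
    · rw [mem_centralizer_singleton_iff]
      have h3 := s.2.2
      have h4 : (s : G) * x = x⁻¹ * s := mul_inv_eq_iff_eq_mul.1 h3
      have h5 : g * x = x⁻¹ * g := mul_inv_eq_iff_eq_mul.1 hg
      have h6 : g⁻¹ * x⁻¹ = x * g⁻¹ := by
        rw [inv_mul_eq_iff_eq_mul, ← mul_assoc, h5, mul_assoc, mul_inv_cancel, mul_one]
      rw [mul_assoc, h4, ← mul_assoc, h6, mul_assoc]
    · have h3 : (g * (c : G)) * x * (g * (c : G))⁻¹ = x⁻¹ := by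
        have h4 : (c : G) * x = x * c := mem_centralizer_singleton_iff.1 c.2
        calc (g * (c : G)) * x * (g * (c : G))⁻¹ = g * ((c : G) * x) * (c : G)⁻¹ * g⁻¹ := by group
          _ = g * x * g⁻¹ := by rw [h4]; group
          _ = x⁻¹ := hg
      exact ⟨orderOf_of_inv hp hp2 hx hc h3, h3⟩
    · intro s
      apply Subtype.ext
      show g * (g⁻¹ * s.1) = s.1
      group
    · intro c
      apply Subtype.ext
      show g⁻¹ * (g * c.1) = c.1
      group
  rw [h2, hc]

theorem degc (χ : IrrCharacter G) : (χ : G → ℂ) 1 = (deg χ : ℂ) := Blocks.Knorr.charDegree_eq χ.2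

/-- The principal block at a self-centralizing element `x` of order `p`. -/
structure Block (p e t : ℕ) (x : G) (NE X : Finset (IrrCharacter G)) (ε : IrrCharacter G → ℤ) (d : ℤ) : Prop where
  rel : Rel x (fun g => ¬ p ∣ orderOf g) NE X ε d
  cardNE : NE.card = e
  cardX : X.card = t
  eps : ∀ χ ∈ NE, ε χ = 1 ∨ ε χ = -1
  one : ∃ χ₁ ∈ NE, (χ₁ : G → ℂ) = 1 ∧ ε χ₁ = 1
  dvdNE : ∀ χ ∈ NE, (p : ℤ) ∣ (deg χ : ℤ) - ε χ
  dvdX : ∀ Θ ∈ X, (p : ℤ) ∣ (deg Θ : ℤ) - d * e
  dvdO : ∀ χ : IrrCharacter G, χ ∉ NE → χ ∉ X → p ∣ deg χ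

/-- The inertial index is determined by the order. -/
def idxOK (N p e : ℕ) : Bool :=
  (List.range p).all fun e' => (e' == e) || ((p - 1) % e' != 0) || (N % (p * e') != 0) || ((N / (p * e')) % p != 1)

theorem exists_block [IsSimpleGroup G] (hG : ¬ IsMulCommutative G) {p : ℕ} [hp : Fact p.Prime] {N : ℕ}
    (hN : Nat.card G = N) (hp2 : p ≠ 2) (hN0 : N % p = 0) (hN1 : N % p ^ 2 ≠ 0) {x : G} (hx : orderOf x = p)
    (hc : Nat.card (centralizer ({x} : Set G)) = p) {e t : ℕ} (ht : e * t = p - 1) (huniq : idxOK N p e = true) :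
    (∃ g : G, Even e → g * x * g⁻¹ = x⁻¹) ∧
    ∃ (NE X : Finset (IrrCharacter G)) (ε : IrrCharacter G → ℤ) (d : ℤ), Block p e t x NE X ε d := by
  classical
  have h1 : p ∣ Nat.card G := by rw [hN]; exact Nat.dvd_of_mod_eq_zero hN0
  have h2 : ¬ p ^ 2 ∣ Nat.card G := by
    rw [hN]; exact fun h => hN1 (Nat.mod_eq_zero_of_dvd h)
  have hpg : IsPGroup p (zpowers x) := IsPGroup.of_card (n := 1) (by rw [Nat.card_zpowers, hx, pow_one])
  obtain ⟨P, hxP⟩ := hpg.exists_le_sylow
  have hP : Nat.card P = p := card_of_not_sq_dvd h1 h2 P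
  have hPx : (P : Subgroup G) = zpowers x := by
    have h3 : Nat.card (zpowers x) = Nat.card (P : Subgroup G) := by rw [Nat.card_zpowers, hx]; exact hP.symm
    exact (Subgroup.eq_of_le_of_card_ge hxP h3.ge).symm
  obtain ⟨e', K, hL⟩ := exists_local hG h1 h2 P
  have hCx : centralizer ((P : Subgroup G) : Set G) = centralizer ({x} : Set G) := by
    rw [hPx, SmallSimple.SelfCentPrime.centralizer_zpowers]
  have hCP : Nat.card (centralizer ((P : Subgroup G) : Set G)) = p := by rw [hCx, hc]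
  have hKk : Nat.card K = 1 := by
    have h3 : p * Nat.card K = p * 1 := by rw [← hL.card_centralizer, mul_one]; exact hCP
    exact Nat.eq_of_mul_eq_mul_left hp.out.pos h3
  have hN' : Nat.card (normalizer ((P : Subgroup G) : Set G)) = p * e' := by
    have := hL.card_normalizer
    rw [hKk, mul_one] at this
    exact this
  have hrel : (centralizer ((P : Subgroup G) : Set G)).relIndex (normalizer ((P : Subgroup G) : Set G)) = e' := by
    have hle : centralizer ((P : Subgroup G) : Set G) ≤ normalizer ((P : Subgroup G) : Set G) :=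
      centralizer_le_normalizer _
    have h3 := Subgroup.index_mul_card ((centralizer ((P : Subgroup G) : Set G)).subgroupOf
      (normalizer ((P : Subgroup G) : Set G)))
    rw [Nat.card_congr (Subgroup.subgroupOfEquivOfLe hle).toEquiv, hCP, hN'] at h3
    apply Nat.eq_of_mul_eq_mul_right hp.out.pos
    rw [Subgroup.relIndex, h3]; ring
  have hee : e' = e := by
    by_contra hne
    have hlt : e' < p := by
      have := Nat.le_of_dvd (by have := hp.out.two_le; omega) hL.dvd_pred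
      have := hp.out.two_le
      omega
    have h3 := List.all_eq_true.1 huniq e' (List.mem_range.2 hlt)
    have hce := hL.card_eq
    rw [hKk, hN, mul_one] at hce
    have hpos : 0 < p * e' := by
      have he1 := hL.one_lt
      exact Nat.mul_pos hp.out.pos (by omega)
    have h4 : N % (p * e') = 0 := by rw [hce]; exact Nat.mul_mod_left _ _
    have h5 : N / (p * e') = Nat.card (Sylow p G) := by rw [hce]; exact Nat.mul_div_cancel _ hpos
    have h6 : Nat.card (Sylow p G) % p = 1 := by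
      have h7 := card_sylow_modEq_one p G
      have h8 : Nat.card (Sylow p G) % p = 1 % p := h7
      rw [h8, Nat.mod_eq_of_lt hp.out.one_lt]
    have h7 : (p - 1) % e' = 0 := Nat.mod_eq_zero_of_dvd hL.dvd_pred
    simp only [Bool.or_eq_true, beq_iff_eq, bne_iff_ne, ne_eq] at h3
    rcases h3 with ((h3 | h3) | h3) | h3
    · exact hne h3
    · exact h3 h7
    · exact h3 h4
    · rw [h5] at h3; exact h3 h6
  subst hee
  have hC : centralizer (P : Set G) = (P : Subgroup G) := by
    symm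
    apply Subgroup.eq_of_le_of_card_ge
    · show (P : Subgroup G) ≤ centralizer ((P : Subgroup G) : Set G)
      rw [hCx, hPx, zpowers_le]
      exact mem_centralizer_singleton_iff.2 rfl
    have h3 : Nat.card (centralizer (P : Set G)) = p := hCP
    have h4 : Nat.card (P : Subgroup G) = p := hP
    rw [h3, h4]
  have hxP' : x ∈ (P : Subgroup G) := by rw [hPx]; exact mem_zpowers x
  have hx1 : x ≠ 1 := by
    rintro rfl
    rw [orderOf_one] at hx
    exact hp.out.one_lt.ne hx
  constructor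
  · by_cases hev : Even e'
    · obtain ⟨g, hg⟩ := exists_inv hp.out hx (by rw [← hPx, hrel]; exact hev)
      exact ⟨g, fun _ => hg⟩
    · exact ⟨1, fun h => absurd h hev⟩
  obtain ⟨NE, X, ε, d, S, hdis, hNE, hX, hε, hd, hone, hv, hvX, -, hrl, hz⟩ :=
    SmallSimple.TheoremBCor.theoremB_selfCent p hp2 P hP hC e' t hrel ht
  refine ⟨NE, X, ε, d, ⟨hdis, fun χ hχ => hv χ hχ x hxP' hx1, fun χ h1 h2 => (hz χ h1 h2).1 x hxP' hx1, hd,
    fun Θ hΘ g hg => hrl Θ hΘ g hg, ?_, hx1⟩, hNE, hX, hε, hone, ?_, ?_, fun χ h1 h2 => (hz χ h1 h2).2⟩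
  · show ¬ p ∣ orderOf (1 : G)
    rw [orderOf_one]
    exact fun h => hp.out.one_lt.ne' (Nat.dvd_one.1 h)
  · intro χ hχ
    obtain ⟨m, hm⟩ := SmallSimple.TheoremBCor.degree_nonexc (P := (P : Subgroup G)) hP (isIrr_isCharacter χ.2)
      (fun y hy hy1 => hv χ hχ y hy hy1)
    refine ⟨(m : ℤ) - ε χ, ?_⟩
    rw [degc] at hm
    have h3 : (((deg χ : ℕ) : ℤ) : ℂ) = ((ε χ + p * ((m : ℤ) - ε χ) : ℤ) : ℂ) := by
      push_cast
      exact hm
    have h4 : ((deg χ : ℕ) : ℤ) = ε χ + p * ((m : ℤ) - ε χ) := by exact_mod_cast h3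
    linear_combination h4
  · intro Θ hΘ
    obtain ⟨hSc, hS1, hSv⟩ := hvX Θ hΘ
    have := Fintype.ofFinite (P : Subgroup G)
    obtain ⟨m, hm⟩ := SmallSimple.TheoremBCor.degree_exc (P := (P : Subgroup G)) hP (isIrr_isCharacter Θ.2) hS1 hSv
    refine ⟨(m : ℤ), ?_⟩
    rw [degc, hSc] at hm
    have h3 : (((deg Θ : ℕ) : ℤ) : ℂ) = ((d * e' + p * m : ℤ) : ℂ) := by
      push_cast
      exact hm
    have h4 : ((deg Θ : ℕ) : ℤ) = d * e' + p * m := by exact_mod_cast h3
    linear_combination h4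

/-- **The class equation of the involutions.** -/
theorem Block.class_eq {p e t : ℕ} (hp : p.Prime) (hp2 : p ≠ 2) {x : G} {NE X : Finset (IrrCharacter G)}
    {ε : IrrCharacter G → ℤ} {d : ℤ} (h : Block p e t x NE X ε d) (hx : orderOf x = p)
    (hc : Nat.card (centralizer ({x} : Set G)) = p) {g : G} (hg : g * x * g⁻¹ = x⁻¹) {τ : G} (hτ : orderOf τ = 2)
    (hone : ∀ s : G, orderOf s = 2 → IsConj τ s) {Θ : IrrCharacter G} (hΘ : Θ ∈ X) (hΘ0 : (Θ : G → ℂ) τ = 0)
    {K C : ℕ} (hK : (centralizer ({τ} : Set G)).index = K) (hC : Nat.card (centralizer ({τ} : Set G)) = C)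
    {b c : IrrCharacter G → ℤ} (hb : ∀ χ : IrrCharacter G, (χ : G → ℂ) τ = b χ)
    (hbc : ∀ χ : IrrCharacter G, (deg χ : ℤ) * c χ = b χ * K) :
    ∑ χ ∈ NE, ε χ * b χ = 0 ∧ ∑ χ ∈ NE, ε χ * (b χ * c χ) = p * C := by
  have hRτ : ¬ p ∣ orderOf τ := by
    rw [hτ]
    exact fun h => hp2 ((Nat.prime_dvd_prime_iff_eq hp Nat.prime_two).1 h)
  constructor
  · have h1 := h.rel.rel Θ hΘ τ hRτ
    rw [hΘ0, mul_zero] at h1
    have h2 : ((∑ χ ∈ NE, ε χ * b χ : ℤ) : ℂ) = 0 := by
      push_cast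
      rw [← h1]
      exact Finset.sum_congr rfl fun χ _ => by rw [hb]
    exact_mod_cast h2
  · obtain ⟨n, hn1, hn2⟩ := h.rel.exists_nat_classMul hΘ hRτ hRτ
    rw [card_pairs hp hp2 hx hc hg hτ hone] at hn2
    rw [hK, hΘ0, hn2] at hn1
    have hG : Nat.card G = C * K := by
      rw [← hC, ← hK]
      exact (Subgroup.card_mul_index _).symm
    have hK0 : (K : ℂ) ≠ 0 := by
      rw [← hK]
      exact_mod_cast Subgroup.index_ne_zero_of_finite
    have h2 : ∀ χ ∈ NE, (ε χ : ℂ) * ((χ : G → ℂ) τ * (χ : G → ℂ) τ / (χ : G → ℂ) 1) * K =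
        ((ε χ * (b χ * c χ) : ℤ) : ℂ) := by
      intro χ _
      have h3 : (deg χ : ℂ) ≠ 0 := by
        rw [← degc]
        exact Cfsg.Agent.Blocks.Basic.irr_one_ne_zero χ.2
      have h4 : (deg χ : ℂ) * (c χ : ℂ) = (b χ : ℂ) * K := by exact_mod_cast hbc χ
      rw [hb, degc]
      push_cast
      field_simp
      linear_combination -(ε χ : ℂ) * b χ * h4
    have h5 : (K : ℂ) * (((∑ χ ∈ NE, ε χ * (b χ * c χ) : ℤ) : ℂ)) = K * ((p * C : ℤ) : ℂ) := by
      have h6 : ((∑ χ ∈ NE, ε χ * (b χ * c χ) : ℤ) : ℂ) =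
          (∑ χ ∈ NE, (ε χ : ℂ) * ((χ : G → ℂ) τ * (χ : G → ℂ) τ / (χ : G → ℂ) 1)) * K := by
        rw [Finset.sum_mul, Int.cast_sum]
        exact Finset.sum_congr rfl fun χ hχ => (h2 χ hχ).symm
      rw [h6]
      rw [hG] at hn1
      push_cast at hn1 ⊢
      linear_combination hn1
    exact_mod_cast mul_left_cancel₀ hK0 h5

end Cfsg.Agent.H116.LyFive
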