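import Cfsg.Agent.H116.LyFive.Srch
import Cfsg.Agent.H116.LyFive.Block
import Cfsg.Agent.H653.Sieve.Cols
import Cfsg.Agent.H692.RealOver

/-!
# The Lyons group has an irreducible character of 5-defect zero (helper116)

Only the following is used: `|C(x)| = 67, 37, 31` for elements of order `67, 37, 31`, one class of involutions with
centralizers of order `11!`, and a character of degree `1534500`.

(A) orthogonality of the columns of 67 and 37 gives a character of degree `43110144`, which is the degree of the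
exceptional characters of the principal 31-block;
(B) the degree equation of the 31-block has eleven solutions;
(C) the class equation of the involutions has no solution in any of them.
-/

set_option autoImplicit false
set_option linter.unusedSectionVars false

open Cfsg Subgroup
open scoped ComplexConjugate

namespace Cfsg.Agent.H116.LyFive

open Cfsg.Agent.Characters.Core Cfsg.Agent.H653.Sieve Cfsg.Agent.H653.Sys
open Cfsg.Agent.SmallSimple.InvolColumn

universe u

/-- the order of the Lyons group -/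
def NN : ℕ := 51765179004000000

def facs : List (ℕ × ℕ) := [(2, 8), (3, 7), (5, 6), (7, 1), (11, 1), (31, 1), (37, 1), (67, 1)]

def wl67 : List (ℕ × ℤ) := [(0, 0), (1, 3), (22, -1), (45, 1), (66, -3)]
def wl37 : List (ℕ × ℤ) := [(0, 0), (1, 2), (18, -1), (19, 1), (36, -2)]
def wl31 : List (ℕ × ℤ) := [(0, 0), (1, 5), (6, -1), (25, 1), (30, -5)]

theorem num67 : numOK NN 67 1 22 3 wl67 3 true = true := by decide +kernel
theorem num37 : numOK NN 37 1 18 2 wl37 2 true = true := by decide +kernel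
theorem num31 : numOK NN 31 1 6 5 wl31 5 true = true := by decide +kernel
theorem idx31 : idxOK NN 31 6 = true := by decide +kernel

def Fs : List Fam := [primeFam 67 wl67 201 3 true 3, primeFam 37 wl37 74 2 true 2, primeFam 31 wl31 155 5 true 5]

def cs : List Cf := [⟨0, 0, 0, [1, 0]⟩, ⟨0, 0, 3, [0]⟩, ⟨0, 0, 0, []⟩]

def ex : List Ex := [⟨fun d => Nat.beq d 1534500, -6, -6⟩]

def Q (d : ℕ) : Bool := Nat.beq (d % 15625) 0 || Nat.beq d 43110144

theorem cert : certOK NN 0 cs ex Fs = true := by decide +kernel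

theorem cert_all : H653.Sieve.allDiv NN (H653.Sys.okD NN 0 cs ex Fs Q) facs 1 = true := by decide +kernel

/-- is the number a candidate? -/
def memZ (z : ℤ) : Bool := sp.any (ieq z) || ge.any (ieq z)

theorem memZ_spec {z : ℤ} (h : memZ z = true) : z ∈ sp ∨ z ∈ ge := by
  rw [memZ, Bool.or_eq_true, List.any_eq_true, List.any_eq_true] at h
  rcases h with ⟨y, hy, h⟩ | ⟨y, hy, h⟩
  · exact Or.inl (ieq_iff.1 h ▸ hy)
  · exact Or.inr (ieq_iff.1 h ▸ hy)

def res67 (r : ℕ) : Bool := Nat.beq r 0 || Nat.beq r 1 || Nat.beq r 22 || Nat.beq r 45 || Nat.beq r 66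
def res37 (r : ℕ) : Bool := Nat.beq r 0 || Nat.beq r 1 || Nat.beq r 18 || Nat.beq r 19 || Nat.beq r 36

/-- the check of the candidates for a degree -/
def chk (d : ℕ) : Bool :=
  Nat.ble NN (d * d) || Nat.beq (d % 15625) 0 || !(res67 (d % 67)) || !(res37 (d % 37)) ||
    ((!(Nat.beq (d % 31) 1) || Nat.beq d 1 || memZ (Int.ofNat d)) &&
      (!(Nat.beq (d % 31) 30) || memZ (Int.negSucc (d - 1))))

theorem chk_all : H653.Sieve.allDiv NN chk facs 1 = true := by decide +kernel

theorem facs_prime : (facs.all fun pa => Nat.Prime pa.1) = true := by norm_num [facs]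

theorem facs_prod : H653.Sieve.facProd facs = NN := by decide +kernel

theorem res67_of {r : ℕ} {w : ℤ} (h : (r, w) ∈ wl67) : res67 r = true := by
  simp only [wl67, List.mem_cons, Prod.mk.injEq, List.not_mem_nil, or_false] at h
  rcases h with ⟨rfl, -⟩ | ⟨rfl, -⟩ | ⟨rfl, -⟩ | ⟨rfl, -⟩ | ⟨rfl, -⟩ <;> rfl

theorem res37_of {r : ℕ} {w : ℤ} (h : (r, w) ∈ wl37) : res37 r = true := by
  simp only [wl37, List.mem_cons, Prod.mk.injEq, List.not_mem_nil, or_false] at h
  rcases h with ⟨rfl, -⟩ | ⟨rfl, -⟩ | ⟨rfl, -⟩ | ⟨rfl, -⟩ | ⟨rfl, -⟩ <;> rfl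

variable {G : Type u} [Group G] [Finite G]

/-- The local data. -/
structure Dat (G : Type u) [Group G] : Prop where
  card : Nat.card G = 51765179004000000
  c67 : ∃ x : G, orderOf x = 67 ∧ Nat.card (centralizer ({x} : Set G)) = 67
  c37 : ∃ x : G, orderOf x = 37 ∧ Nat.card (centralizer ({x} : Set G)) = 37
  c31 : ∃ x : G, orderOf x = 31 ∧ Nat.card (centralizer ({x} : Set G)) = 31
  deg : ∃ χ : IrrCharacter G, charDegree (χ : G → ℂ) = 1534500
  inv : ∃ t : G, orderOf t = 2 ∧ Nat.card (centralizer ({t} : Set G)) = 39916800 ∧ ∀ s : G, orderOf s = 2 → IsConj t s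

instance fact67p : Fact (Nat.Prime 67) := ⟨by norm_num⟩
instance fact37p : Fact (Nat.Prime 37) := ⟨by norm_num⟩
instance fact31p : Fact (Nat.Prime 31) := ⟨by norm_num⟩

theorem isConj_order {g h : G} (hc : IsConj g h) : orderOf g = orderOf h := by
  obtain ⟨c, hc⟩ := isConj_iff.1 hc
  have := orderOf_injective (MulAut.conj c).toMonoidHom (MulAut.conj c).injective g
  rw [← hc]
  simpa using this.symm

/-- (A) There is a character of degree `43110144`. -/
theorem exists_exc [IsSimpleGroup G] (hG : ¬ IsMulCommutative G) (D : Dat G)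
    (hno : ∀ χ : IrrCharacter G, ¬ 15625 ∣ charDegree (χ : G → ℂ)) :
    ∃ χ : IrrCharacter G, deg χ = 43110144 := by
  classical
  have := finite_irr (G := G)
  have := Fintype.ofFinite (IrrCharacter G)
  obtain ⟨x67, h67, c67⟩ := D.c67
  obtain ⟨x37, h37, c37⟩ := D.c37
  obtain ⟨x31, h31, c31⟩ := D.c31
  have hN : Nat.card G = NN := D.card
  obtain ⟨W67, hW67⟩ := primeFam_ok hG hN h67 (k := 1) (by rw [c67]) 22 3 wl67 3 true num67 201 3 (by norm_num) (by norm_num)
  obtain ⟨W37, hW37⟩ := primeFam_ok hG hN h37 (k := 1) (by rw [c37]) 18 2 wl37 2 true num37 74 2 (by norm_num) (by norm_num)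
  obtain ⟨W31, hW31⟩ := primeFam_ok hG hN h31 (k := 1) (by rw [c31]) 6 5 wl31 5 true num31 155 5 (by norm_num) (by norm_num)
  have hnp : ¬ (Nat.card G).Prime := by
    rw [D.card]
    exact fun h => absurd (h.eq_one_or_self_of_dvd 2 (by norm_num)) (by norm_num)
  obtain ⟨χ, -, hχ⟩ := exists_of_cert (lab := fun g : G => orderOf g) (fun g h hc => isConj_order hc) orderOf_one NN hN facs
    facs_prime facs_prod (fun χ h => one_of_deg hnp χ h) (Fs := Fs) (.cons hW67 (.cons hW37 (.cons hW31 .nil))) ex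
    (by
      intro e he
      simp only [ex, List.mem_singleton] at he
      subst he
      obtain ⟨χ, hχ⟩ := D.deg
      exact Ex.of_exists ⟨χ, by
        have : deg χ = 1534500 := hχ
        rw [this]
        rfl⟩ (by norm_num)) 0 cs Q cert cert_all
  refine ⟨χ, ?_⟩
  rw [Q, Bool.or_eq_true] at hχ
  rcases hχ with h | h
  · exact absurd (Nat.dvd_of_mod_eq_zero (Nat.eq_of_beq_eq_true h)) (hno χ)
  · exact Nat.eq_of_beq_eq_true h

/-- The signed degrees of the nonexceptional characters are candidates. -/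
theorem candidate [IsSimpleGroup G] (hG : ¬ IsMulCommutative G) (D : Dat G)
    (hno : ∀ χ : IrrCharacter G, ¬ 15625 ∣ charDegree (χ : G → ℂ)) (χ : IrrCharacter G) (h1 : (χ : G → ℂ) ≠ 1)
    {ε : ℤ} (hε : ε = 1 ∨ ε = -1) (hd : (31 : ℤ) ∣ (deg χ : ℤ) - ε) : ε * deg χ ∈ sp ∨ ε * deg χ ∈ ge := by
  classical
  have := finite_irr (G := G)
  have := Fintype.ofFinite (IrrCharacter G)
  obtain ⟨x67, h67, c67⟩ := D.c67
  obtain ⟨x37, h37, c37⟩ := D.c37
  have hN : Nat.card G = NN := D.card
  obtain ⟨-, W67, -, -, -, hok67⟩ := H653.Sieve.exists_col hG hN h67 (k := 1) (by rw [c67]) 22 3 wl67 3 true num67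
  obtain ⟨-, W37, -, -, -, hok37⟩ := H653.Sieve.exists_col hG hN h37 (k := 1) (by rw [c37]) 18 2 wl37 2 true num37
  have r67 : res67 (deg χ % 67) = true := res67_of (hok67.mem χ)
  have r37 : res37 (deg χ % 37) = true := res37_of (hok37.mem χ)
  have hnp : ¬ (Nat.card G).Prime := by
    rw [D.card]
    exact fun h => absurd (h.eq_one_or_self_of_dvd 2 (by norm_num)) (by norm_num)
  have hne1 : deg χ ≠ 1 := fun h => h1 (one_of_deg hnp χ h)
  have hpos : 0 < deg χ := by
    have := Cfsg.Agent.Blocks.Basic.irr_one_ne_zero χ.2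
    rw [degc] at this
    rcases Nat.eq_zero_or_pos (deg χ) with h | h
    · rw [h] at this; simp at this
    · exact h
  have hdvd : deg χ ∣ facProd facs := by
    rw [facs_prod, ← hN]
    exact Blocks.Knorr.charDegree_dvd χ.2
  have hlt : deg χ * deg χ < NN := by
    have hsq : ∑ χ : IrrCharacter G, deg χ * deg χ = NN := by
      have h3 := SmallSimple.DegreeData.sum_sq (G := G)
      rw [← hN, ← h3]
      exact Finset.sum_congr rfl fun χ _ => by unfold deg; ring
    have hχ₁ : ∃ χ₁ : IrrCharacter G, (χ₁ : G → ℂ) = 1 := ⟨⟨1, isIrr_one⟩, rfl⟩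
    obtain ⟨χ₁, hχ₁⟩ := hχ₁
    have hne : χ ≠ χ₁ := fun h => h1 (by rw [h, hχ₁])
    have hd1 : deg χ₁ = 1 := by
      unfold deg charDegree
      rw [hχ₁]
      simp
    have h4 : ∑ χ' ∈ ({χ, χ₁} : Finset (IrrCharacter G)), deg χ' * deg χ' ≤
        ∑ χ' : IrrCharacter G, deg χ' * deg χ' :=
      Finset.sum_le_sum_of_subset (Finset.subset_univ _)
    rw [Finset.sum_pair hne, hsq, hd1] at h4
    omega
  have hpr : ∀ pa ∈ facs, pa.1.Prime := by
    intro pa hpa
    have := List.all_eq_true.1 facs_prime pa hpa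
    simpa using this
  have h3 := allDiv_spec hpr chk_all (deg χ) hdvd (by rwa [one_mul])
  rw [one_mul, chk, r67, r37] at h3
  have h0 : Nat.beq (deg χ % 15625) 0 = false := by
    rw [Bool.eq_false_iff]
    exact fun h => hno χ (Nat.dvd_of_mod_eq_zero (Nat.eq_of_beq_eq_true h))
  have hb1 : Nat.beq (deg χ) 1 = false := by
    rw [Bool.eq_false_iff]
    exact fun h => hne1 (Nat.eq_of_beq_eq_true h)
  have hble : Nat.ble NN (deg χ * deg χ) = false := by
    rw [Bool.eq_false_iff]
    intro h5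
    exact absurd (Nat.le_of_ble_eq_true h5) (by omega)
  rw [hble, h0, hb1] at h3
  simp only [Bool.not_true, Bool.false_or, Bool.or_false, Bool.and_eq_true, Bool.or_eq_true, Bool.not_eq_true'] at h3
  obtain ⟨h3, h4⟩ := h3
  rcases hε with rfl | rfl
  · rw [one_mul]
    have h5 : deg χ % 31 = 1 := by omega
    rw [h5] at h3
    rcases h3 with h3 | h3
    · exact Bool.noConfusion h3
    · exact memZ_spec h3
  · have h5 : deg χ % 31 = 30 := by omega
    rw [h5] at h4
    rcases h4 with h4 | h4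
    · exact Bool.noConfusion h4
    · have h6 := memZ_spec h4
      have h7 : Int.negSucc (deg χ - 1) = -1 * (deg χ : ℤ) := by
        rw [Int.negSucc_eq]
        omega
      rw [h7] at h6
      exact h6

/-- **The Lyons group has an irreducible character of 5-defect zero.** -/
theorem exists_dz [IsSimpleGroup G] (hG : ¬ IsMulCommutative G) (D : Dat G) :
    ∃ χ : IrrCharacter G, 15625 ∣ charDegree (χ : G → ℂ) := by
  classical
  by_contra hno
  push Not at hno
  have hfin := finite_irr (G := G)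
  have := Fintype.ofFinite (IrrCharacter G)
  obtain ⟨x, hx, hc⟩ := D.c31
  obtain ⟨τ, hτ, hτc, hone⟩ := D.inv
  have hN : Nat.card G = NN := D.card
  obtain ⟨⟨g, hg⟩, NE, X, ε, d, B⟩ := exists_block hG hN (by norm_num) (by decide +kernel) (by decide +kernel) hx hc
    (e := 6) (t := 5) (by norm_num) idx31
  replace hg := hg (by decide)
  -- (A)
  obtain ⟨Θ, hΘd⟩ := exists_exc hG D hno
  have hΘX : Θ ∈ X := by
    by_contra hX
    by_cases hNE : Θ ∈ NE
    · have h1 := B.dvdNE Θ hNE
      rw [hΘd] at h1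
      rcases B.eps Θ hNE with h2 | h2 <;> rw [h2] at h1 <;> revert h1 <;> norm_num
    · have h1 := B.dvdO Θ hNE hX
      rw [hΘd] at h1
      revert h1
      norm_num
  have hd : d = -1 := by
    rcases B.rel.hd with h | h
    · have h1 := B.dvdX Θ hΘX
      rw [hΘd, h] at h1
      revert h1
      norm_num
    · exact h
  -- the values at the involution
  have hbex : ∀ χ : IrrCharacter G, ∃ z : ℤ, (χ : G → ℂ) τ = z := by
    intro χ
    obtain ⟨n, z, -, hz, -⟩ := exists_int_of_char (isIrr_isCharacter χ.2) (t := τ) (by rw [← hτ, pow_orderOf_eq_one])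
    exact ⟨z, hz⟩
  choose b hb using hbex
  have hK : (centralizer ({τ} : Set G)).index = KK := by
    have h1 := (centralizer ({τ} : Set G)).card_mul_index
    rw [hτc, D.card] at h1
    have h2 : 39916800 * KK = 51765179004000000 := by decide +kernel
    omega
  have hcex : ∀ χ : IrrCharacter G, ∃ c : ℤ, (deg χ : ℤ) * c = b χ * KK := by
    intro χ
    obtain ⟨c, hc⟩ := dvd_index_mul χ.2 (hb χ)
    rw [hK] at hc
    exact ⟨c, by rw [mul_comm (b χ)]; exact hc.symm⟩
  choose c hc' using hcex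
  have hle : ∀ χ : IrrCharacter G, b χ * b χ ≤ CT := by
    intro χ
    have h1 := sum_sq_le ({χ} : Finset (IrrCharacter G)) τ b fun χ _ => hb χ
    rw [Finset.sum_singleton, hτc, pow_two] at h1
    exact h1
  have hpos : ∀ χ : IrrCharacter G, deg χ ≠ 0 := by
    intro χ h
    have := Cfsg.Agent.Blocks.Basic.irr_one_ne_zero χ.2
    rw [degc, h] at this
    simp at this
  have hdz : ∀ χ : IrrCharacter G, 256 ∣ deg χ → b χ = 0 := by
    intro χ h
    have h1 := H692.RealOver.defect_zero_vanish χ.2 2 Nat.prime_two (by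
      have h2 : (Nat.card G).factorization 2 = 8 := by
        rw [D.card, show (51765179004000000 : ℕ) = 2 ^ 8 * 202207730484375 by norm_num,
          Nat.factorization_mul (by norm_num) (by norm_num), Nat.Prime.factorization_pow Nat.prime_two]
        rw [Finsupp.add_apply, Finsupp.single_eq_same, Nat.factorization_eq_zero_of_not_dvd (by norm_num)]
      rw [h2]
      exact h) (x := τ) (by rw [hτ])
    rw [hb χ] at h1
    exact_mod_cast h1
  have hΘ0 : (Θ : G → ℂ) τ = 0 := by
    rw [hb Θ, hdz Θ (by rw [hΘd]; norm_num)]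
    simp
  obtain ⟨hL, hQ⟩ := B.class_eq (by norm_num) (by norm_num) hx hc hg hτ hone hΘX hΘ0 hK hτc hb hc'
  -- without the principal character
  obtain ⟨χ₁, h1NE, hχ₁, hε₁⟩ := B.one
  have hS5 : (NE.erase χ₁).card = 5 := by rw [Finset.card_erase_of_mem h1NE, B.cardNE]
  have hd1 : deg χ₁ = 1 := by
    unfold deg charDegree
    rw [hχ₁]
    simp
  have hb1 : b χ₁ = 1 := by
    have := hb χ₁
    rw [hχ₁, Pi.one_apply] at this
    exact_mod_cast this.symm
  have hc1 : c χ₁ = KK := by
    have := hc' χ₁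
    rw [hd1, hb1] at this
    simpa using this
  rw [← Finset.add_sum_erase NE _ h1NE, hε₁, hb1] at hL hQ
  rw [hc1] at hQ
  -- the degrees
  have hdeg : ∑ χ ∈ NE.erase χ₁, ε χ * (deg χ : ℤ) = -43110145 := by
    have h1 := B.rel.rel Θ hΘX 1 B.rel.one
    have h2 : ((∑ χ ∈ NE, ε χ * (deg χ : ℤ) : ℤ) : ℂ) = ((-1 * 43110144 : ℤ) : ℂ) := by
      push_cast
      rw [degc, hΘd, hd] at h1
      push_cast at h1
      rw [show (-43110144 : ℂ) = -1 * 43110144 by norm_num, ← h1]
      exact Finset.sum_congr rfl fun χ _ => by rw [degc]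
    have h3 : ∑ χ ∈ NE, ε χ * (deg χ : ℤ) = -1 * 43110144 := by exact_mod_cast h2
    rw [← Finset.add_sum_erase NE _ h1NE, hε₁, hd1] at h3
    push_cast at h3
    linarith
  set Df : IrrCharacter G → ℤ := fun χ => ε χ * (deg χ : ℤ) with hDf
  obtain ⟨s, hs, hsm⟩ := enum_sound ((NE.erase χ₁).val.map Df) (by rw [Multiset.card_map]; exact hS5)
    (by
      intro z hz
      obtain ⟨χ, hχ, rfl⟩ := Multiset.mem_map.1 hz
      have hχ' : χ ∈ NE.erase χ₁ := hχ
      obtain ⟨hne, hχN⟩ := Finset.mem_erase.1 hχ'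
      exact candidate hG D hno χ (fun h => hne (Subtype.ext (h.trans hχ₁.symm))) (B.eps χ hχN) (B.dvdNE χ hχN))
    hdeg
  have hsg : ∀ χ ∈ NE.erase χ₁, sg (Df χ) = ε χ := by
    intro χ hχ
    have hp : 0 < deg χ := Nat.pos_of_ne_zero (hpos χ)
    obtain ⟨m, hm⟩ : ∃ m, deg χ = m + 1 := ⟨deg χ - 1, by omega⟩
    rcases B.eps χ (Finset.mem_of_mem_erase hχ) with h | h
    · show sg (ε χ * (deg χ : ℤ)) = ε χ
      rw [h, one_mul]
      rfl
    · show sg (ε χ * (deg χ : ℤ)) = ε χ
      rw [h, hm]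
      rfl
  have hnat : ∀ χ ∈ NE.erase χ₁, (Df χ).natAbs = deg χ := by
    intro χ hχ
    show (ε χ * (deg χ : ℤ)).natAbs = deg χ
    rw [Int.natAbs_mul, Int.natAbs_natCast]
    rcases B.eps χ (Finset.mem_of_mem_erase hχ) with h | h <;> rw [h] <;> simp
  have hH : Hyp Df b c (NE.erase χ₁) := by
    refine ⟨fun χ hχ h0 => ?_, fun χ hχ => ?_, fun χ _ => hle χ, fun χ hχ h => ?_⟩
    · have h1 := hnat χ hχ
      rw [h0] at h1
      exact hpos χ h1.symm
    · rw [hnat χ hχ]; exact hc' χ
    · rw [hnat χ hχ] at h; exact hdz χ h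
  have hchk := List.all_eq_true.1 search_check s hs
  refine srch_sound (l := srt s) (S := NE.erase χ₁) ?_ hH hchk ?_ ?_
  · rw [← hsm]
    exact (Multiset.coe_eq_coe.2 (List.perm_insertionSort _ _)).symm
  · rw [Finset.sum_congr rfl fun χ hχ => by rw [hsg χ hχ]]
    linarith
  · rw [Finset.sum_congr rfl fun χ hχ => by rw [hsg χ hχ]]
    have h1 : ((31 : ℕ) : ℤ) * ((39916800 : ℕ) : ℤ) = 31 * CT := by norm_num [CT]
    rw [h1] at hQ
    linarith

end Cfsg.Agent.H116.LyFive
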