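import Cfsg.Agent.H116.LyFive.Main
import Cfsg.Agent.H655.LySixtySeven
import Cfsg.Agent.H655.LyThirtySeven
import Cfsg.Agent.H314.LyOrb.Deg
import Cfsg.Agent.H845.CopLy
import Cfsg.Agent.H7.NBpComp
import Cfsg.Agent.H718.NBIH
import Cfsg.Agent.H368.NB.Sq
import Cfsg.Agent.H314.IMLy
import Cfsg.Agent.H58.McLCover
import Cfsg.Agent.NotCT.Orders

/-!
# `NB 5 Ly` (helper116)
-/

set_option autoImplicit false

open Cfsg Subgroup

namespace Cfsg.Agent.H116.LyFive

universe u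

/-- The local data of the Lyons group, from the centralizer of an element of order 31. -/
theorem dat_of (hK : H995.CopEngine.AllKnown.{0})
    (h31 : ∀ x : Spor.Ly, orderOf x = 31 → Nat.card (centralizer ({x} : Set Spor.Ly)) = 31) : Dat Spor.Ly := by
  have hfin : Finite Spor.Ly := Cfsg.Agent.Ly.Setup.finite_ly
  have hI : Spor.IsoLy Spor.Ly := ⟨MulEquiv.refl _⟩
  obtain ⟨-, hs, hcard, ⟨L⟩⟩ := TypeM.FactsLy.facts hI
  have hex : ∀ p : ℕ, p.Prime → p ∣ 51765179004000000 → ∃ x : Spor.Ly, orderOf x = p := by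
    intro p hp hd
    have : Fact p.Prime := ⟨hp⟩
    exact exists_prime_orderOf_dvd_card' p (by rw [hcard]; exact hd)
  refine ⟨hcard, ?_, ?_, ?_, ?_, ?_⟩
  · obtain ⟨x, hx⟩ := hex 67 (by norm_num) (by norm_num)
    exact ⟨x, hx, H655.LySixtySeven.card_centralizer hK hI hx⟩
  · obtain ⟨x, hx⟩ := hex 37 (by norm_num) (by norm_num)
    exact ⟨x, hx, H655.LyThirtySeven.card_centralizer37 hK hI hx⟩
  · obtain ⟨x, hx⟩ := hex 31 (by norm_num) (by norm_num)
    exact ⟨x, hx, h31 x hx⟩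
  · obtain ⟨χ, -, hχ⟩ := H314.LyOrb.exists_deg_ly
    exact ⟨χ 2, (hχ 2).trans rfl⟩
  · have hti : orderOf L.t = 2 := by
      have h2 : Fact (Nat.Prime 2) := ⟨Nat.prime_two⟩
      refine orderOf_eq_prime (by rw [pow_two]; exact L.t_mul_t) ?_
      intro h
      have h1 := H845.CopLy.card_cent L
      have h2 : centralizer ({L.t} : Set Spor.Ly) = ⊤ := by
        rw [h, eq_top_iff]
        intro g _
        rw [mem_centralizer_singleton_iff]
        simp
      rw [h2, Nat.card_congr Subgroup.topEquiv.toEquiv, hcard] at h1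
      revert h1
      norm_num
    refine ⟨L.t, hti, H845.CopLy.card_cent L, fun s hs => ?_⟩
    have hss : s * s = 1 := by rw [← pow_two, ← hs, pow_orderOf_eq_one]
    have hs1 : s ≠ 1 := by
      rintro rfl
      rw [orderOf_one] at hs
      omega
    obtain ⟨g, hg⟩ := L.one s hss hs1
    exact isConj_iff.2 ⟨g, hg⟩

/-- **The Lyons group has an irreducible character of 5-defect zero.** -/
theorem exists_dz_ly (hK : H995.CopEngine.AllKnown.{0})
    (h31 : ∀ x : Spor.Ly, orderOf x = 31 → Nat.card (centralizer ({x} : Set Spor.Ly)) = 31) :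
    ∃ χ : IrrCharacter Spor.Ly, 15625 ∣ charDegree (χ : Spor.Ly → ℂ) := by
  have hfin : Finite Spor.Ly := Cfsg.Agent.Ly.Setup.finite_ly
  have hI : Spor.IsoLy Spor.Ly := ⟨MulEquiv.refl _⟩
  obtain ⟨-, hs, hcard, -⟩ := TypeM.FactsLy.facts hI
  refine exists_dz (fun hc => ?_) (dat_of hK h31)
  have h4 : (Nat.card Spor.Ly).Prime := by
    let _ : CommGroup Spor.Ly := { (inferInstance : Group Spor.Ly) with mul_comm := hc.is_comm.comm }
    exact IsSimpleGroup.prime_card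
  rw [hcard] at h4
  exact absurd (h4.eq_one_or_self_of_dvd 2 (by norm_num)) (by norm_num)

/-- **Row Ly, p = 5.** -/
theorem nb_of (hK : H995.CopEngine.AllKnown.{0})
    (h31 : ∀ x : Spor.Ly, orderOf x = 31 → Nat.card (centralizer ({x} : Set Spor.Ly)) = 31)
    {S : Type u} [Group S] (h : Spor.IsoLy S) : H7.NBp.NB 5 S := by
  have hfin : Finite Spor.Ly := Cfsg.Agent.Ly.Setup.finite_ly
  have hp : Fact (Nat.Prime 5) := ⟨Nat.prime_five⟩
  obtain ⟨e⟩ := h
  obtain ⟨χ, hχ⟩ := exists_dz_ly hK h31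
  obtain ⟨-, -, hcard, -⟩ := TypeM.FactsLy.facts (M := Spor.Ly) ⟨MulEquiv.refl _⟩
  refine H7.NBp.NB.iso e.symm (H7.NBp.NB.of_dz χ.2 (degc χ) (by rw [hcard]; norm_num) ?_)
  intro h5
  have hdvd : charDegree (χ : Spor.Ly → ℂ) ∣ Nat.card Spor.Ly := Blocks.Knorr.charDegree_dvd χ.2
  have h6 : 5 * 15625 ∣ Nat.card Spor.Ly / charDegree (χ : Spor.Ly → ℂ) * charDegree (χ : Spor.Ly → ℂ) :=
    Nat.mul_dvd_mul h5 hχ
  rw [Nat.div_mul_cancel hdvd, hcard] at h6
  revert h6
  norm_num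

open H7.NBp in
/-- `p = 3`: an element of order three with centralizer `3.McL`. -/
theorem nb_three (ih : NB 3 ↥Cfsg.Spor.McL) : NB 3 Spor.Ly := by
  have hfin : Finite Spor.Ly := Cfsg.Agent.Ly.Setup.finite_ly
  have hp : Fact (Nat.Prime 3) := ⟨Nat.prime_three⟩
  have hA0 : Nat.card Cfsg.Agent.Ly.McL.Cent.A0 ≤ 378000 :=
    Cfsg.Agent.Ly.McL.ClassX.card_centralizer_x_le Cfsg.Agent.Ly.T1.card_Hhat
  obtain ⟨h1, h2, h3, h4⟩ := Cfsg.Agent.Ly.McL.Main.main Cfsg.Agent.Ly.Index.data Cfsg.Agent.Ly.Pres.closure_gens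
    Cfsg.Agent.Ly.Setup.card_ly hA0
  have hx := Cfsg.Agent.Ly.McL.Main.order_x' Cfsg.Agent.Ly.Index.data Cfsg.Agent.Ly.Pres.closure_gens
    Cfsg.Agent.Ly.Setup.card_ly
  obtain ⟨L⟩ := TypeM.FactsLy.exists_mt_ly
  obtain ⟨g, h, hgh⟩ := TypeM.OutLyFin.exists_commutator Cfsg.Agent.Ly.Index.data
  obtain ⟨L', htx, h5, h6, L8, hL8⟩ := TypeM.OutLyFin.exists_out_data L hx h1 h2 h3 hgh
  obtain ⟨e⟩ := Cfsg.Agent.McLLyComp.FactsAutMT.iso_mcl L8
  refine NB.of_centralizer_singleton _ ⟨1, by rw [pow_one, ← hx, pow_orderOf_eq_one]⟩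
    (NB.of_surjective (e.toMonoidHom.comp (QuotientGroup.mk' (center _)))
      (e.surjective.comp (QuotientGroup.mk'_surjective _)) ?_ ih)
  intro y hy
  have h7 : e ((QuotientGroup.mk' (center _)) y) = 1 := hy
  rw [map_eq_one_iff _ e.injective] at h7
  exact (QuotientGroup.eq_one_iff y).1 h7

open H7.NBp in
/-- **Row Ly.** -/
theorem row_of (hK : H995.CopEngine.AllKnown.{0})
    (h31 : ∀ x : Spor.Ly, orderOf x = 31 → Nat.card (centralizer ({x} : Set Spor.Ly)) = 31)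
    {p : ℕ} [hp : Fact p.Prime] (h2 : p ≠ 2) (S : Type) [Group S] [Finite S] [IsSimpleGroup S] (h : Spor.IsoLy S)
    (ih : H718.NBIH.IH p (Nat.card S)) : NB p S := by
  have hcard : Nat.card S = 51765179004000000 := NotCT.Orders.ly h
  have hNf : (51765179004000000 : ℕ) = 2 ^ 8 * 3 ^ 7 * 5 ^ 6 * 7 * 11 * 31 * 37 * 67 := by norm_num
  by_cases hd : p ∣ Nat.card S
  swap
  · exact NB.of_not_dvd hd
  by_cases h3 : p ^ 3 ∣ Nat.card S
  swap
  · exact H368.NBSq.NB.of_IM_sq (H314.IMLy.im_ly h hd) h3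
  have hpp := hp.out
  have h35 : p = 3 ∨ p = 5 := by
    have h4 := hd
    rw [hcard, hNf, hpp.dvd_mul, hpp.dvd_mul, hpp.dvd_mul, hpp.dvd_mul, hpp.dvd_mul, hpp.dvd_mul, hpp.dvd_mul] at h4
    have key : ∀ {q k : ℕ}, q.Prime → p ∣ q ^ k → p = q := fun hq h => (Nat.prime_dvd_prime_iff_eq hpp hq).1 (hpp.dvd_of_dvd_pow h)
    have key' : ∀ {q : ℕ}, q.Prime → p ∣ q → ¬ q ^ 3 ∣ 51765179004000000 → False := fun hq h h' => by
      rw [(Nat.prime_dvd_prime_iff_eq hpp hq).1 h, hcard] at h3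
      exact h' h3
    rcases h4 with ((((((h4 | h4) | h4) | h4) | h4) | h4) | h4) | h4
    · exact absurd (key Nat.prime_two h4) h2
    · exact Or.inl (key Nat.prime_three h4)
    · exact Or.inr (key Nat.prime_five h4)
    · exact (key' (q := 7) (by norm_num) h4 (by norm_num)).elim
    · exact (key' (q := 11) (by norm_num) h4 (by norm_num)).elim
    · exact (key' (q := 31) (by norm_num) h4 (by norm_num)).elim
    · exact (key' (q := 37) (by norm_num) h4 (by norm_num)).elim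
    · exact (key' (q := 67) (by norm_num) h4 (by norm_num)).elim
  rcases h35 with rfl | rfl
  · obtain ⟨e⟩ := h
    refine NB.iso e.symm (nb_three ?_)
    have hs : IsSimpleGroup ↥Cfsg.Spor.McL := Schreier.McLaughlin.isSimple_mcl
    have hm : Nat.card ↥Cfsg.Spor.McL = 898128000 := Schreier.McLaughlin.card_mcl
    have hf : Finite ↥Cfsg.Spor.McL := Nat.finite_of_card_ne_zero (by rw [hm]; norm_num)
    refine ih _ (fun hc => ?_) (by rw [hm, hcard]; norm_num)
    have h4 : (Nat.card ↥Cfsg.Spor.McL).Prime := by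
      let _ : CommGroup ↥Cfsg.Spor.McL := { (inferInstance : Group ↥Cfsg.Spor.McL) with mul_comm := hc.is_comm.comm }
      exact IsSimpleGroup.prime_card
    rw [hm] at h4
    exact absurd (h4.eq_one_or_self_of_dvd 2 (by norm_num)) (by norm_num)
  · exact nb_of hK h31 h

end Cfsg.Agent.H116.LyFive
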