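import Mathlib.Algebra.BigOperators.Group.Finset.Basic
import Mathlib.Algebra.BigOperators.Ring.Finset
import Mathlib.Algebra.Order.Ring.Int
import Mathlib.Data.Int.GCD
import Mathlib.Tactic.Ring
import Mathlib.Tactic.Linarith

/-!
# The principal 31-block of the Lyons group: the arithmetic (helper116)

`sp`, `ge` : the possible signed degrees of the nonexceptional characters;
`enum_sound` : the multisets of five of them with sum `-43110145`;
`srch_sound` : there are no possible values at the involutions for these.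
-/

set_option autoImplicit false

namespace Cfsg.Agent.H116.LyFive

/-! ### Enumeration of multisets -/

def ieq : ℤ → ℤ → Bool
  | Int.ofNat a, Int.ofNat b => Nat.beq a b
  | Int.negSucc a, Int.negSucc b => Nat.beq a b
  | _, _ => false

theorem ieq_iff {a b : ℤ} : ieq a b = true ↔ a = b := by
  rcases a with a | a <;> rcases b with b | b <;> simp [ieq]

def ileq : List ℤ → List ℤ → Bool
  | [], [] => true
  | a :: as, b :: bs => ieq a b && ileq as bs
  | _, _ => false

theorem eq_of_ileq : ∀ {a b : List ℤ}, ileq a b = true → a = b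
  | [], [], _ => rfl
  | [], _ :: _, h => by simp [ileq] at h
  | _ :: _, [], h => by simp [ileq] at h
  | a :: as, b :: bs, h => by
    rw [ileq, Bool.and_eq_true] at h
    rw [ieq_iff.1 h.1, eq_of_ileq h.2]

/-- All the nonempty suffixes of the list. -/
def allSuf : List ℤ → (ℤ → List ℤ → Bool) → Bool
  | [], _ => true
  | x :: L, f => f x (x :: L) && allSuf L f

theorem allSuf_sound : ∀ {L : List ℤ} {f : ℤ → List ℤ → Bool}, allSuf L f = true → ∀ m : Multiset ℤ, m ≠ 0 →
    (∀ x ∈ m, x ∈ L) → ∃ (x : ℤ) (L' : List ℤ), f x L' = true ∧ x ∈ m ∧ (∀ y ∈ m, y ∈ L') ∧ ∀ y ∈ L', y ∈ L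
  | [], f, _, m, hm, hL => by
    obtain ⟨x, hx⟩ := Multiset.exists_mem_of_ne_zero hm
    exact absurd (hL x hx) (by simp)
  | x :: L, f, h, m, hm, hL => by
    rw [allSuf, Bool.and_eq_true] at h
    by_cases hx : x ∈ m
    · exact ⟨x, x :: L, h.1, hx, hL, fun y hy => hy⟩
    · obtain ⟨y, L', h1, h2, h3, h4⟩ := allSuf_sound h.2 m hm fun y hy => by
        rcases List.mem_cons.1 (hL y hy) with rfl | h'
        · exact absurd hy hx
        · exact h'
      exact ⟨y, L', h1, h2, h3, fun z hz => List.mem_cons_of_mem _ (h4 z hz)⟩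

/-- All the multisets of `n` elements of `L` with sum `T`, together with `acc`, are in `S`. -/
def go2 (S : List (List ℤ)) : ℕ → List ℤ → ℤ → List ℤ → Bool
  | 0, _, T, acc => !(ieq T 0) || S.any (ileq acc)
  | n + 1, L, T, acc =>
    bif Nat.beq n 0 then !(L.any (ieq T)) || S.any (ileq (T :: acc))
    else allSuf L fun x L' => go2 S n L' (T - x) (x :: acc)

theorem go2_sound {S : List (List ℤ)} : ∀ {n : ℕ} {L : List ℤ} {T : ℤ} {acc : List ℤ}, go2 S n L T acc = true →
    ∀ m : Multiset ℤ, Multiset.card m = n → (∀ x ∈ m, x ∈ L) → m.sum = T → ∃ s ∈ S, (s : Multiset ℤ) = m + acc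
  | 0, L, T, acc, h, m, hm, _, hT => by
    obtain rfl := Multiset.card_eq_zero.1 hm
    rw [Multiset.sum_zero] at hT
    subst hT
    have h0 : ieq 0 0 = true := ieq_iff.2 rfl
    rw [go2, h0] at h
    simp only [Bool.not_true, Bool.false_or, List.any_eq_true] at h
    obtain ⟨s, hs, he⟩ := h
    exact ⟨s, hs, by rw [← eq_of_ileq he]; simp⟩
  | n + 1, L, T, acc, h, m, hm, hL, hT => by
    rw [go2] at h
    cases hn : Nat.beq n 0
    · rw [hn, cond_false] at h
      have hm0 : m ≠ 0 := by
        rintro rfl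
        simp at hm
      obtain ⟨x, L', h1, h2, h3, -⟩ := allSuf_sound h m hm0 hL
      obtain ⟨m', rfl⟩ := Multiset.exists_cons_of_mem h2
      obtain ⟨s, hs, he⟩ := go2_sound h1 m' (by simpa using hm) (fun y hy => h3 y (Multiset.mem_cons_of_mem hy))
        (by rw [← hT, Multiset.sum_cons]; ring)
      refine ⟨s, hs, ?_⟩
      rw [he, ← Multiset.cons_coe, Multiset.add_cons, Multiset.cons_add]
    · rw [hn, cond_true] at h
      obtain rfl : n = 0 := Nat.eq_of_beq_eq_true hn
      obtain ⟨x, rfl⟩ := Multiset.card_eq_one.1 (by simpa using hm)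
      have hx : x = T := by rw [← hT]; simp
      subst hx
      have hxL : x ∈ L := hL x (by simp)
      have h1 : L.any (ieq x) = true := List.any_eq_true.2 ⟨x, hxL, ieq_iff.2 rfl⟩
      rw [h1] at h
      simp only [Bool.not_true, Bool.false_or, List.any_eq_true] at h
      obtain ⟨s, hs, he⟩ := h
      refine ⟨s, hs, ?_⟩
      rw [← eq_of_ileq he, ← Multiset.cons_coe, ← Multiset.singleton_add]

/-- First elements of `L`, then elements of `L₂`, all divisible by `c`. -/
def go1 (S : List (List ℤ)) (L₂ : List ℤ) (c : ℕ) : ℕ → List ℤ → ℤ → List ℤ → Bool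
  | 0, _, T, acc => !(ieq T 0) || S.any (ileq acc)
  | n + 1, L, T, acc => (!(ieq (T % c) 0) || go2 S (n + 1) L₂ T acc) &&
      allSuf L fun x L' => go1 S L₂ c n L' (T - x) (x :: acc)

theorem dvd_multiset_sum {c : ℤ} {m : Multiset ℤ} (h : ∀ x ∈ m, c ∣ x) : c ∣ m.sum := Multiset.dvd_sum h

theorem go1_sound {S : List (List ℤ)} {L₂ : List ℤ} {c : ℕ} (hc : ∀ x ∈ L₂, (c : ℤ) ∣ x) :
    ∀ {n : ℕ} {L : List ℤ} {T : ℤ} {acc : List ℤ}, go1 S L₂ c n L T acc = true →
    ∀ m m₂ : Multiset ℤ, Multiset.card m + Multiset.card m₂ = n → (∀ x ∈ m, x ∈ L) → (∀ x ∈ m₂, x ∈ L₂) →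
    m.sum + m₂.sum = T → ∃ s ∈ S, (s : Multiset ℤ) = m + m₂ + acc
  | 0, L, T, acc, h, m, m₂, hm, _, _, hT => by
    obtain rfl : m = 0 := Multiset.card_eq_zero.1 (by omega)
    obtain rfl : m₂ = 0 := Multiset.card_eq_zero.1 (by simpa using hm)
    rw [Multiset.sum_zero, add_zero] at hT
    subst hT
    have h0 : ieq 0 0 = true := ieq_iff.2 rfl
    rw [go1, h0] at h
    simp only [Bool.not_true, Bool.false_or, List.any_eq_true] at h
    obtain ⟨s, hs, he⟩ := h
    exact ⟨s, hs, by rw [← eq_of_ileq he]; simp⟩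
  | n + 1, L, T, acc, h, m, m₂, hm, hL, hL₂, hT => by
    rw [go1, Bool.and_eq_true] at h
    by_cases hm0 : m = 0
    · subst hm0
      rw [Multiset.sum_zero, zero_add] at hT
      rw [Multiset.card_zero, zero_add] at hm
      have h1 : ieq (T % c) 0 = true := by
        rw [ieq_iff, ← hT]
        exact Int.emod_eq_zero_of_dvd (dvd_multiset_sum fun x hx => hc x (hL₂ x hx))
      have h2 := h.1
      rw [h1] at h2
      obtain ⟨s, hs, he⟩ := go2_sound (by simpa using h2) m₂ hm hL₂ hT
      exact ⟨s, hs, by rw [he, zero_add]⟩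
    · obtain ⟨x, L', h1, h2, h3, -⟩ := allSuf_sound h.2 m hm0 hL
      obtain ⟨m', rfl⟩ := Multiset.exists_cons_of_mem h2
      obtain ⟨s, hs, he⟩ := go1_sound hc h1 m' m₂ (by rw [Multiset.card_cons] at hm; omega)
        (fun y hy => h3 y (Multiset.mem_cons_of_mem hy)) hL₂
        (by rw [← hT, Multiset.sum_cons]; ring)
      refine ⟨s, hs, ?_⟩
      rw [he, ← Multiset.cons_coe, Multiset.add_cons, Multiset.cons_add, Multiset.cons_add]

/-- The candidates not divisible by `2479 = 37 * 67`. -/
def sp : List ℤ := [-117920000, -5128515, -586116, -417879, -25326, 105525, 120064, 2517480, 3561250, 11188800,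
  24312960, 24873750, 70804125]

/-- The candidates divisible by `2479`. -/
def ge : List ℤ := [-163614000, -140559300, -115660224, -86765000, -82461456, -71395200, -59637303, -36813150, -22211840, -19522125,
  -16063920, -11452980, -9916000, -4997664, -3614382, -2231100, -1308912, -694120, -309875, -156177, -79328,
  -2479, 74370, 381766, 535464, 1227105, 2379840, 4685310, 5453800, 8835156, 9296250, 12216512, 15059925,
  17134848, 20823600, 33734232, 39267360, 47720750, 66933000, 77307615, 108431460, 149929920, 153388125, 174521600]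

/-- The solutions. -/
def sols : List (List ℤ) := [[153388125, 39267360, 74370, -117920000, -117920000],
  [77307615, 8835156, -11452980, 120064, -117920000],
  [77307615, 2379840, -4997664, 120064, -117920000],
  [77307615, -1308912, -1308912, 120064, -117920000],
  [39267360, 4685310, -86765000, 120064, -417879],
  [39267360, 381766, -82461456, 120064, -417879],
  [17134848, -309875, -59637303, 120064, -417879],
  [5453800, -11452980, -36813150, 120064, -417879],
  [77307615, -4997664, -115660224, 120064, 120064],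
  [39267360, -156177, -82461456, 120064, 120064],
  [15059925, 1227105, -59637303, 120064, 120064]]

theorem ge_dvd : ∀ x ∈ ge, ((2479 : ℕ) : ℤ) ∣ x := by decide +kernel

theorem go_check : go1 sols ge 2479 5 sp (-43110145) [] = true := by decide +kernel

/-- **The enumeration.** -/
theorem enum_sound (m : Multiset ℤ) (hm : Multiset.card m = 5) (hL : ∀ x ∈ m, x ∈ sp ∨ x ∈ ge)
    (hT : m.sum = -43110145) : ∃ s ∈ sols, (s : Multiset ℤ) = m := by
  classical
  obtain ⟨s, hs, he⟩ := go1_sound ge_dvd go_check (m.filter (· ∈ sp)) (m.filter (¬ · ∈ sp))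
    (by rw [← Multiset.card_add, Multiset.filter_add_not, hm])
    (fun x hx => (Multiset.mem_filter.1 hx).2)
    (fun x hx => by
      obtain ⟨h1, h2⟩ := Multiset.mem_filter.1 hx
      exact (hL x h1).resolve_left h2)
    (by rw [← Multiset.sum_add, Multiset.filter_add_not, hT])
  exact ⟨s, hs, by rw [he, Multiset.filter_add_not]; simp⟩

end Cfsg.Agent.H116.LyFive
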