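import Cfsg.Agent.H116.LyFive.NBLy
import Cfsg.Agent.H613.Ly5.ThirtyOne

/-!
# Row Ly of S5002 / S5003, complete (helper116)
-/

set_option autoImplicit false

namespace Cfsg.Agent.H116.LyFive

open Subgroup Cfsg H7.NBp

/-- **Row Ly** (all odd primes). -/
theorem nb_ly (hK : H995.CopEngine.AllKnown.{0}) {p : ℕ} [hp : Fact p.Prime] (h2 : p ≠ 2) (S : Type) [Group S] [Finite S]
    [IsSimpleGroup S] (h : Spor.IsoLy S) (ih : H718.NBIH.IH p (Nat.card S)) : NB p S :=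
  row_of hK (fun _ hx => H613.Ly5.ThirtyOne.card_centralizer31 ⟨MulEquiv.refl _⟩ hx) h2 S h ih

end Cfsg.Agent.H116.LyFive
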