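import Cfsg.Agent.H116.LyFive.Num
import Mathlib.Data.Multiset.MapFold
import Mathlib.RingTheory.Coprime.Lemmas
import Mathlib.Tactic.LinearCombination
import Mathlib.Tactic.NormNum

/-!
# The principal 31-block of the Lyons group: the values at an involution (helper116)

`i` runs over five characters with signed degrees `D i`, `b i` is the value at the involution and
`c i = b i * |K| / |D i|` is the value of the central character. The search shows that
`1 + ∑ ε b = 0`, `|K| + ∑ ε b c = 31 * |C(t)|` has no solution for the eleven lists of degrees.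
-/

set_option autoImplicit false

namespace Cfsg.Agent.H116.LyFive

/-- number of the involutions -/
def KK : ℕ := 1296826875

/-- order of the centralizer of an involution -/
def CT : ℕ := 39916800

/-- the sign -/
def sg : ℤ → ℤ
  | Int.ofNat _ => 1
  | Int.negSucc _ => -1

theorem sg_sq (D : ℤ) : sg D * sg D = 1 := by
  rcases D with a | a <;> rfl

/-- A variable: sign, divisor of `b`, coefficient of `k ^ 2`, bound of `k`, common divisor of the `q`s from here. -/
structure Var where
  e : ℤ
  q : ℕ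
  w : ℕ
  B : ℕ
  g : ℕ

def headG : List Var → ℕ
  | [] => 0
  | v :: _ => v.g

/-- The variable of a signed degree. -/
def mkVar (D : ℤ) (g' : ℕ) : Var :=
  let a := D.natAbs
  let g₀ := Nat.gcd a KK
  let q := a / g₀
  let B := bif Nat.beq (a % 256) 0 then 0 else 6318 / q
  { e := sg D, q := q, w := q * (KK / g₀), B := B, g := bif Nat.beq B 0 then g' else Nat.gcd q g' }

def mkVars : List ℤ → List Var
  | [] => []
  | D :: l => mkVar D (headG (mkVars l)) :: mkVars l

theorem var_spec {D b c : ℤ} (hD : D ≠ 0) (h : (D.natAbs : ℤ) * c = b * KK) (hb : b * b ≤ CT)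
    (h256 : 256 ∣ D.natAbs → b = 0) (g' : ℕ) : ∃ k : ℤ, b = (mkVar D g').q * k ∧ b * c = (mkVar D g').w * (k * k) ∧
      k.natAbs ≤ (mkVar D g').B := by
  set a := D.natAbs with ha
  have ha0 : 0 < a := Int.natAbs_pos.2 hD
  set g₀ := Nat.gcd a KK with hg₀
  have hg0 : 0 < g₀ := Nat.gcd_pos_of_pos_left _ ha0
  obtain ⟨q, hq⟩ : g₀ ∣ a := Nat.gcd_dvd_left _ _
  obtain ⟨r, hr⟩ : g₀ ∣ KK := Nat.gcd_dvd_right _ _
  have hq' : a / g₀ = q := by rw [hq]; exact Nat.mul_div_cancel_left _ hg0
  have hr' : KK / g₀ = r := by rw [hr]; exact Nat.mul_div_cancel_left _ hg0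
  have hcop : Nat.Coprime q r := by
    have h1 := Nat.coprime_div_gcd_div_gcd (m := a) (n := KK) hg0
    rwa [← hg₀, hq', hr'] at h1
  have hq0 : 0 < q := by
    rcases Nat.eq_zero_or_pos q with h1 | h1
    · rw [h1, mul_zero] at hq; omega
    · exact h1
  have hgz : (g₀ : ℤ) ≠ 0 := by exact_mod_cast hg0.ne'
  have hqz : (q : ℤ) ≠ 0 := by exact_mod_cast hq0.ne'
  have h1 : (q : ℤ) * c = b * r := by
    apply mul_left_cancel₀ hgz
    have e1 : (a : ℤ) = g₀ * q := by exact_mod_cast hq
    have e2 : (KK : ℤ) = g₀ * r := by exact_mod_cast hr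
    rw [e1, e2] at h
    linear_combination h
  have h2 : (q : ℤ) ∣ b := by
    have h3 : (q : ℤ) ∣ b * r := ⟨c, h1.symm⟩
    exact (Nat.isCoprime_iff_coprime.2 hcop).dvd_of_dvd_mul_right h3
  obtain ⟨k, hk⟩ := h2
  have hc : c = k * r := by
    apply mul_left_cancel₀ hqz
    rw [h1, hk]; ring
  have eq1 : (mkVar D g').q = q := hq'
  have eq2 : (mkVar D g').w = q * r := by
    show a / g₀ * (KK / g₀) = q * r
    rw [hq', hr']
  refine ⟨k, by rw [eq1, hk], by rw [eq2, hc, hk]; push_cast; ring, ?_⟩
  show k.natAbs ≤ bif Nat.beq (a % 256) 0 then 0 else 6318 / (a / g₀)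
  cases h3 : Nat.beq (a % 256) 0
  · rw [cond_false, hq', Nat.le_div_iff_mul_le hq0]
    have h4 : b.natAbs * b.natAbs ≤ CT := by
      have : ((b.natAbs * b.natAbs : ℕ) : ℤ) = b * b := Int.natAbs_mul_self
      have h5 : ((b.natAbs * b.natAbs : ℕ) : ℤ) ≤ (CT : ℤ) := by rw [this]; exact hb
      exact_mod_cast h5
    have h5 : b.natAbs = q * k.natAbs := by rw [hk, Int.natAbs_mul, Int.natAbs_natCast]
    have h6 : b.natAbs ≤ 6318 := by
      by_contra h7
      push Not at h7
      have h8 : 6319 * 6319 ≤ b.natAbs * b.natAbs := Nat.mul_le_mul h7 h7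
      have h9 : CT < 6319 * 6319 := by decide
      omega
    rw [mul_comm, ← h5]
    exact h6
  · rw [cond_true]
    have h4 := h256 (Nat.dvd_of_mod_eq_zero (Nat.eq_of_beq_eq_true h3))
    rw [h4] at hk
    have h5 : k = 0 := by
      rcases mul_eq_zero.1 hk.symm with h6 | h6
      · exact absurd h6 hqz
      · exact h6
    rw [h5]
    rfl

/-- All the integers of absolute value at most the bound. -/
def allK : ℕ → (ℤ → Bool) → Bool
  | 0, f => f 0
  | k + 1, f => f (Int.ofNat (k + 1)) && f (Int.negSucc k) && allK k f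

theorem allK_sound : ∀ {B : ℕ} {f : ℤ → Bool}, allK B f = true → ∀ k : ℤ, k.natAbs ≤ B → f k = true
  | 0, f, h, k, hk => by
    obtain rfl : k = 0 := by omega
    exact h
  | B + 1, f, h, k, hk => by
    rw [allK, Bool.and_eq_true, Bool.and_eq_true] at h
    by_cases h1 : k.natAbs ≤ B
    · exact allK_sound h.2 k h1
    · have h2 : k.natAbs = B + 1 := by omega
      rcases k with a | a
      · have : a = B + 1 := h2
        subst this
        exact h.1.1
      · have : a = B := by simpa using h2
        subst this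
        exact h.1.2

/-- The search. -/
def srch : List Var → ℤ → ℤ → Bool
  | [], L, Q => !(ieq L 0) || !(ieq Q 0)
  | [v], L, Q => !(ieq (L % v.g) 0) || !(ieq (v.e * (v.w * ((v.e * L / v.q) * (v.e * L / v.q)))) Q)
  | v :: u :: vs, L, Q => !(ieq (L % v.g) 0) || allK v.B fun k => srch (u :: vs) (L - v.e * (v.q * k)) (Q - v.e * (v.w * (k * k)))

section sound

variable {ι : Type*} {D b c : ι → ℤ}

/-- The hypotheses. -/
structure Hyp (D b c : ι → ℤ) (S : Finset ι) : Prop where
  ne : ∀ i ∈ S, D i ≠ 0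
  eq : ∀ i ∈ S, ((D i).natAbs : ℤ) * c i = b i * KK
  le : ∀ i ∈ S, b i * b i ≤ CT
  dz : ∀ i ∈ S, 256 ∣ (D i).natAbs → b i = 0

theorem exists_split [DecidableEq ι] {D₀ : ℤ} {l : List ℤ} {S : Finset ι} (h : S.val.map D = ((D₀ :: l : List ℤ) : Multiset ℤ)) :
    ∃ i ∈ S, D i = D₀ ∧ (S.erase i).val.map D = (l : Multiset ℤ) := by
  have h1 : D₀ ∈ S.val.map D := by rw [h]; simp
  obtain ⟨i, hi, hD⟩ := Multiset.mem_map.1 h1
  refine ⟨i, hi, hD, ?_⟩
  rw [Finset.erase_val, Multiset.map_erase_of_mem _ _ hi, h, hD, ← Multiset.cons_coe, Multiset.erase_cons_head]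

theorem Hyp.mono {S T : Finset ι} (h : Hyp D b c S) (hT : T ⊆ S) : Hyp D b c T :=
  ⟨fun i hi => h.ne i (hT hi), fun i hi => h.eq i (hT hi), fun i hi => h.le i (hT hi), fun i hi => h.dz i (hT hi)⟩

theorem headG_dvd [DecidableEq ι] : ∀ {l : List ℤ} {S : Finset ι}, S.val.map D = (l : Multiset ℤ) → Hyp D b c S →
    (headG (mkVars l) : ℤ) ∣ ∑ i ∈ S, sg (D i) * b i
  | [], S, h, _ => by
    have : S = ∅ := by
      rw [← Finset.val_eq_zero]
      exact Multiset.map_eq_zero.1 h
    rw [this]
    simp [mkVars, headG]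
  | D₀ :: l, S, h, hS => by
    obtain ⟨i, hi, hD, h'⟩ := exists_split h
    have ih := headG_dvd h' (hS.mono (Finset.erase_subset i S))
    obtain ⟨k, hk1, -, hk3⟩ := var_spec (hS.ne i hi) (hS.eq i hi) (hS.le i hi) (hS.dz i hi) (headG (mkVars l))
    rw [← Finset.add_sum_erase S _ hi]
    rw [hD] at hk1 hk3
    show (((mkVar D₀ (headG (mkVars l))).g : ℕ) : ℤ) ∣ _
    set v := mkVar D₀ (headG (mkVars l)) with hv
    have hg : v.g = bif Nat.beq v.B 0 then headG (mkVars l) else Nat.gcd v.q (headG (mkVars l)) := rfl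
    rw [hg]
    cases hB : Nat.beq v.B 0
    · rw [cond_false]
      refine dvd_add (Dvd.dvd.mul_left ?_ _) ((Int.natCast_dvd_natCast.2 (Nat.gcd_dvd_right _ _)).trans ih)
      rw [hk1]
      exact (Int.natCast_dvd_natCast.2 (Nat.gcd_dvd_left _ _)).trans (dvd_mul_right _ _)
    · rw [cond_true]
      have h0 : v.B = 0 := Nat.eq_of_beq_eq_true hB
      have hk : k = 0 := by rw [h0] at hk3; omega
      rw [hk1, hk, mul_zero, mul_zero, zero_add]
      exact ih

theorem srch_sound [DecidableEq ι] : ∀ {l : List ℤ} {S : Finset ι} {L Q : ℤ}, S.val.map D = (l : Multiset ℤ) →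
    Hyp D b c S → srch (mkVars l) L Q = true → ∑ i ∈ S, sg (D i) * b i = L → ∑ i ∈ S, sg (D i) * (b i * c i) = Q → False
  | [], S, L, Q, h, _, hs, hL, hQ => by
    have : S = ∅ := by
      rw [← Finset.val_eq_zero]
      exact Multiset.map_eq_zero.1 h
    subst this
    rw [Finset.sum_empty] at hL hQ
    subst hL hQ
    revert hs
    decide
  | [D₀], S, L, Q, h, hS, hs, hL, hQ => by
    have hg := headG_dvd h hS
    rw [hL] at hg
    obtain ⟨i, hi, hD, h'⟩ := exists_split h
    obtain ⟨k, hk1, hk2, -⟩ := var_spec (hS.ne i hi) (hS.eq i hi) (hS.le i hi) (hS.dz i hi) (headG (mkVars []))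
    have hSe : S.erase i = ∅ := by
      rw [← Finset.val_eq_zero]
      exact Multiset.map_eq_zero.1 h'
    rw [← Finset.add_sum_erase S _ hi, hSe, Finset.sum_empty, add_zero] at hL hQ
    rw [hD] at hk1 hk2 hL hQ
    have hq0 : ((mkVar D₀ (headG (mkVars []))).q : ℤ) ≠ 0 := by
      have hD0 : D₀ ≠ 0 := hD ▸ hS.ne i hi
      have ha0 : 0 < D₀.natAbs := Int.natAbs_pos.2 hD0
      have h1 : 0 < D₀.natAbs / Nat.gcd D₀.natAbs KK :=
        Nat.div_pos (Nat.gcd_le_left _ ha0) (Nat.gcd_pos_of_pos_left _ ha0)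
      exact_mod_cast h1.ne'
    simp only [mkVars, srch, Bool.or_eq_true, Bool.not_eq_true'] at hs
    set v := mkVar D₀ (headG []) with hv
    have he : v.e = sg D₀ := rfl
    rcases hs with hs | hs
    · have h1 : ieq (L % (v.g : ℤ)) 0 = true := ieq_iff.2 (Int.emod_eq_zero_of_dvd hg)
      rw [h1] at hs
      exact Bool.noConfusion hs
    · have h1 : v.e * L / (v.q : ℤ) = k := by
        rw [← hL, hk1, he, ← mul_assoc, sg_sq, one_mul]
        exact Int.mul_ediv_cancel_left _ hq0
      rw [h1, he] at hs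
      have h2 : ieq (sg D₀ * (v.w * (k * k))) Q = true := by
        rw [ieq_iff, ← hQ, hk2]
        rfl
      rw [h2] at hs
      exact Bool.noConfusion hs
  | D₀ :: D₁ :: l, S, L, Q, h, hS, hs, hL, hQ => by
    have hg := headG_dvd h hS
    rw [hL] at hg
    obtain ⟨i, hi, hD, h'⟩ := exists_split h
    obtain ⟨k, hk1, hk2, hk3⟩ := var_spec (hS.ne i hi) (hS.eq i hi) (hS.le i hi) (hS.dz i hi) (headG (mkVars (D₁ :: l)))
    rw [← Finset.add_sum_erase S _ hi] at hL hQ
    rw [hD] at hk1 hk2 hk3 hL hQ
    have hs' : (!(ieq (L % (mkVar D₀ (headG (mkVars (D₁ :: l)))).g) 0) ||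
        allK (mkVar D₀ (headG (mkVars (D₁ :: l)))).B fun k => srch (mkVars (D₁ :: l))
          (L - (mkVar D₀ (headG (mkVars (D₁ :: l)))).e * ((mkVar D₀ (headG (mkVars (D₁ :: l)))).q * k))
          (Q - (mkVar D₀ (headG (mkVars (D₁ :: l)))).e * ((mkVar D₀ (headG (mkVars (D₁ :: l)))).w * (k * k)))) = true := hs
    have he : (mkVar D₀ (headG (mkVars (D₁ :: l)))).e = sg D₀ := rfl
    have h1 : ieq (L % ((mkVar D₀ (headG (mkVars (D₁ :: l)))).g : ℤ)) 0 = true := ieq_iff.2 (Int.emod_eq_zero_of_dvd hg)
    rw [h1, Bool.not_true, Bool.false_or] at hs'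
    have h2 := allK_sound hs' k hk3
    refine srch_sound h' (hS.mono (Finset.erase_subset i S)) h2 ?_ ?_
    · rw [he, ← hk1]; linear_combination hL
    · rw [he, ← hk2]; linear_combination hQ

end sound

/-- The order of the variables for the search. -/
def srt (l : List ℤ) : List ℤ := l.insertionSort fun x y => (mkVar x 0).B ≤ (mkVar y 0).B

theorem search_0 : srch (mkVars (srt [153388125, 39267360, 74370, -117920000, -117920000])) (-1) (31 * CT - KK) = true := by decide +kernel

theorem search_1 : srch (mkVars (srt [77307615, 8835156, -11452980, 120064, -117920000])) (-1) (31 * CT - KK) = true := by decide +kernel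

theorem search_2 : srch (mkVars (srt [77307615, 2379840, -4997664, 120064, -117920000])) (-1) (31 * CT - KK) = true := by decide +kernel

theorem search_3 : srch (mkVars (srt [77307615, -1308912, -1308912, 120064, -117920000])) (-1) (31 * CT - KK) = true := by decide +kernel

theorem search_4 : srch (mkVars (srt [39267360, 4685310, -86765000, 120064, -417879])) (-1) (31 * CT - KK) = true := by decide +kernel

theorem search_5 : srch (mkVars (srt [39267360, 381766, -82461456, 120064, -417879])) (-1) (31 * CT - KK) = true := by decide +kernel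

theorem search_6 : srch (mkVars (srt [17134848, -309875, -59637303, 120064, -417879])) (-1) (31 * CT - KK) = true := by decide +kernel

theorem search_7 : srch (mkVars (srt [5453800, -11452980, -36813150, 120064, -417879])) (-1) (31 * CT - KK) = true := by decide +kernel

theorem search_8 : srch (mkVars (srt [77307615, -4997664, -115660224, 120064, 120064])) (-1) (31 * CT - KK) = true := by decide +kernel

theorem search_9 : srch (mkVars (srt [39267360, -156177, -82461456, 120064, 120064])) (-1) (31 * CT - KK) = true := by decide +kernel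

theorem search_10 : srch (mkVars (srt [15059925, 1227105, -59637303, 120064, 120064])) (-1) (31 * CT - KK) = true := by decide +kernel

theorem search_check : (sols.all fun l => srch (mkVars (srt l)) (-1) (31 * CT - KK)) = true := by
  rw [List.all_eq_true]
  intro l hl
  simp only [sols, List.mem_cons, List.not_mem_nil, or_false] at hl
  rcases hl with rfl | rfl | rfl | rfl | rfl | rfl | rfl | rfl | rfl | rfl | rfl
  exacts [search_0, search_1, search_2, search_3, search_4, search_5, search_6, search_7, search_8, search_9, search_10]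

end Cfsg.Agent.H116.LyFive
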